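import Mathlib.RingTheory.LocalRing.ResidueField.Instances
import Mathlib.FieldTheory.PurelyInseparable.Basic
import Mathlib.RingTheory.Spectrum.Prime.Topology

/-!
# A universal homeomorphism between perfect rings is surjective
-/

set_option autoImplicit false
set_option linter.style.haveILetI false

universe u

namespace Groth.Agent.H98.PerfUH

variable {R S : Type u} [CommRing R] [CommRing S] [Algebra R S] (p : ℕ) [Fact p.Prime]

lemma root_mem (hp : (p : R) = 0) (hR : Function.Bijective fun t : R => t ^ p)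
    (hS : Function.Bijective fun t : S => t ^ p) {y : S}
    (h : y ^ p ∈ Set.range (algebraMap R S)) : y ∈ Set.range (algebraMap R S) := by
  obtain ⟨r, hr⟩ := h
  obtain ⟨a, ha⟩ := hR.2 r
  refine ⟨a, hS.1 ?_⟩
  simp only at ha ⊢
  rw [← map_pow, ha, hr]

/-- residue fields of a perfect ring are perfect -/
lemma perfectField_residueField (hR : Function.Bijective fun t : R => t ^ p) (hp : (p : R) = 0)
    (P : Ideal R) [P.IsPrime] : PerfectField P.ResidueField := by
  haveI : CharP P.ResidueField p := (CharP.charP_iff_prime_eq_zero Fact.out).2 (by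
    simpa using congr_arg (algebraMap R P.ResidueField) hp)
  haveI : ExpChar P.ResidueField p := ExpChar.prime Fact.out
  haveI : PerfectRing P.ResidueField p := PerfectRing.ofSurjective _ _ (fun x => by
    obtain ⟨a, b, -, rfl⟩ := IsFractionRing.div_surjective (R ⧸ P) x
    obtain ⟨a, rfl⟩ := Ideal.Quotient.mk_surjective a
    obtain ⟨b, rfl⟩ := Ideal.Quotient.mk_surjective b
    obtain ⟨a', rfl⟩ := hR.2 a
    obtain ⟨b', rfl⟩ := hR.2 b
    refine ⟨algebraMap R P.ResidueField a' / algebraMap R P.ResidueField b', ?_⟩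
    simp [frobenius_def, div_pow])
  exact PerfectRing.toPerfectField _ p

lemma exists_mem_range_mod [Algebra.IsIntegral R S] (hp : (p : R) = 0)
    (hR : Function.Bijective fun t : R => t ^ p)
    (hpt : ∀ (K : Type u) [Field K] (ψ₁ ψ₂ : S →+* K),
      ψ₁.comp (algebraMap R S) = ψ₂.comp (algebraMap R S) → ψ₁ = ψ₂)
    (P : Ideal R) [P.IsPrime] (Q : Ideal S) [Q.IsPrime] [Q.LiesOver P] (y : S) :
    ∃ a b : R, b ∉ P ∧ algebraMap R S b * y - algebraMap R S a ∈ Q := by
  letI : Algebra (Localization.AtPrime P) (Localization.AtPrime Q) :=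
    Localization.AtPrime.algebraOfLiesOver P Q
  haveI := perfectField_residueField p hR hp P
  haveI : Algebra.IsAlgebraic P.ResidueField Q.ResidueField := inferInstance
  haveI : Algebra.IsSeparable P.ResidueField Q.ResidueField := inferInstance
  haveI : IsPurelyInseparable P.ResidueField Q.ResidueField := by
    rw [isPurelyInseparable_iff_subsingleton_emb]
    refine ⟨fun σ τ => ?_⟩
    have h1 : σ.toRingHom.comp (algebraMap S Q.ResidueField) =
        τ.toRingHom.comp (algebraMap S Q.ResidueField) := by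
      apply hpt
      ext r
      simp only [RingHom.comp_apply, AlgHom.toRingHom_eq_coe, RingHom.coe_coe]
      rw [← IsScalarTower.algebraMap_apply R S Q.ResidueField,
        IsScalarTower.algebraMap_apply R P.ResidueField Q.ResidueField, AlgHom.commutes,
        AlgHom.commutes]
    exact AlgHom.coe_ringHom_injective (Ideal.ResidueField.ringHom_ext h1)
  obtain ⟨z, hz⟩ :=
    IsPurelyInseparable.surjective_algebraMap_of_isSeparable P.ResidueField Q.ResidueField
      (algebraMap S Q.ResidueField y)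
  obtain ⟨a, b, hb, rfl⟩ := IsFractionRing.div_surjective (R ⧸ P) z
  obtain ⟨a, rfl⟩ := Ideal.Quotient.mk_surjective a
  obtain ⟨b, rfl⟩ := Ideal.Quotient.mk_surjective b
  have hbP : b ∉ P := fun h => nonZeroDivisors.ne_zero hb (Ideal.Quotient.eq_zero_iff_mem.mpr h)
  refine ⟨a, b, hbP, ?_⟩
  rw [← Ideal.algebraMap_residueField_eq_zero, map_sub, map_mul,
    ← IsScalarTower.algebraMap_apply R S, ← IsScalarTower.algebraMap_apply R S, sub_eq_zero]
  rw [map_div₀, Ideal.algebraMap_quotient_residueField_mk, Ideal.algebraMap_quotient_residueField_mk,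
    ← IsScalarTower.algebraMap_apply, ← IsScalarTower.algebraMap_apply, div_eq_iff] at hz
  · rw [hz, mul_comm]
  · rw [IsScalarTower.algebraMap_apply R P.ResidueField Q.ResidueField]
    simpa [Ideal.algebraMap_residueField_eq_zero] using hbP

omit [Fact p.Prime] in
lemma mem_range_of_pow (hp : (p : R) = 0) (hR : Function.Bijective fun t : R => t ^ p)
    (hS : Function.Bijective fun t : S => t ^ p) (hp1 : p.Prime) :
    ∀ (n : ℕ) {y : S}, y ^ p ^ n ∈ Set.range (algebraMap R S) → y ∈ Set.range (algebraMap R S)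
  | 0, y, h => by simpa using h
  | n + 1, y, h => by
    haveI := Fact.mk hp1
    rw [pow_succ, pow_mul] at h
    exact mem_range_of_pow hp hR hS hp1 n (root_mem p hp hR hS h)

theorem surjective_algebraMap [Algebra.IsIntegral R S] (hp : (p : R) = 0)
    (hR : Function.Bijective fun t : R => t ^ p) (hS : Function.Bijective fun t : S => t ^ p)
    (hpt : ∀ (K : Type u) [Field K] (ψ₁ ψ₂ : S →+* K),
      ψ₁.comp (algebraMap R S) = ψ₂.comp (algebraMap R S) → ψ₁ = ψ₂)
    (hbij : Function.Bijective (PrimeSpectrum.comap (algebraMap R S))) :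
    Function.Surjective (algebraMap R S) := by
  intro s
  let S₀ : Subalgebra R S := Algebra.adjoin R {s}
  have hfg : S₀.toSubmodule.FG :=
    (Algebra.IsIntegral.isIntegral (R := R) s).fg_adjoin_singleton
  let C : Ideal R :=
    { carrier := {r | ∀ y ∈ S₀, algebraMap R S r * y ∈ Set.range (algebraMap R S)}
      add_mem' := fun {a b} ha hb y hy => by
        obtain ⟨u, hu⟩ := ha y hy
        obtain ⟨v, hv⟩ := hb y hy
        exact ⟨u + v, by rw [map_add, map_add, add_mul, hu, hv]⟩
      zero_mem' := fun y _ => ⟨0, by simp⟩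
      smul_mem' := fun c {a} ha y hy => by
        obtain ⟨u, hu⟩ := ha y hy
        exact ⟨c * u, by rw [smul_eq_mul, map_mul, map_mul, hu, mul_assoc]⟩ }
  have hrad : ∀ {r : R} (n : ℕ), r ^ p ^ n ∈ C → r ∈ C := by
    intro r n hr y hy
    refine mem_range_of_pow p hp hR hS Fact.out n ?_
    rw [mul_pow, ← map_pow]
    exact hr _ (pow_mem hy _)
  by_cases hC : C = ⊤
  · obtain ⟨a, ha⟩ := ((Ideal.eq_top_iff_one C).mp hC) s (Algebra.self_mem_adjoin_singleton R s)
    exact ⟨a, by simpa using ha⟩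
  exfalso
  obtain ⟨P, hP⟩ := Ideal.nonempty_minimalPrimes hC
  haveI := hP.1.1
  obtain ⟨⟨Q, hQ⟩, hQP⟩ := hbij.2 ⟨P, hP.1.1⟩
  haveI := hQ
  haveI : Q.LiesOver P := ⟨(congr_arg PrimeSpectrum.asIdeal hQP).symm⟩
  -- elements of `P` are killed up to something outside `P`
  have hcP : ∀ c ∈ P, ∃ t : R, t ∉ P ∧ t * c ∈ C := by
    intro c hc
    obtain ⟨t, ht, n, htn⟩ : ∃ t ∉ P, ∃ n : ℕ, t * c ^ n ∈ C := by
      by_contra hne
      push Not at hne
      let M : Submonoid R :=
        { carrier := {x | ∃ t ∉ P, ∃ n : ℕ, x = t * c ^ n}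
          one_mem' := ⟨1, fun h => hP.1.1.ne_top ((Ideal.eq_top_iff_one P).mpr h), 0, by simp⟩
          mul_mem' := by
            rintro _ _ ⟨t, ht, n, rfl⟩ ⟨t', ht', n', rfl⟩
            exact ⟨t * t', fun h => (hP.1.1.mem_or_mem h).elim ht ht', n + n', by ring⟩ }
      obtain ⟨J, hJ, hCJ, hJM⟩ := Ideal.exists_le_prime_disjoint C M (Set.disjoint_left.mpr
        fun x hx ⟨t, ht, n, e⟩ => hne t ht n (e ▸ hx))
      have hJP : J ≤ P := fun x hx => by
        by_contra h
        exact Set.disjoint_left.mp hJM hx ⟨x, h, 0, by simp⟩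
      exact Set.disjoint_left.mp hJM (hP.2 ⟨hJ, hCJ⟩ hJP hc)
        ⟨1, fun h => hP.1.1.ne_top ((Ideal.eq_top_iff_one P).mpr h), 1, by simp⟩
    obtain ⟨k, hk⟩ : ∃ k, n ≤ p ^ k := ⟨n, (Nat.lt_pow_self (Fact.out : p.Prime).one_lt).le⟩
    refine ⟨t, ht, hrad k ?_⟩
    have : (t * c) ^ p ^ k = (t ^ (p ^ k - 1) * c ^ (p ^ k - n)) * (t * c ^ n) := by
      rw [mul_pow, mul_mul_mul_comm, pow_sub_mul_pow c hk, ← pow_succ,
        Nat.sub_add_cancel (Nat.one_le_pow _ _ (Fact.out : p.Prime).pos)]
    rw [this]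
    exact C.mul_mem_left _ htn
  -- elements of `P S₀` go to the range up to something outside `P`
  have hPS : ∀ z ∈ P.map (algebraMap R S₀), ∃ t ∉ P,
      algebraMap R S t * (z : S) ∈ Set.range (algebraMap R S) := by
    intro z hz
    induction hz using Submodule.span_induction with
    | mem z hz =>
      obtain ⟨c, hc, rfl⟩ := hz
      obtain ⟨t, ht, htc⟩ := hcP c hc
      exact ⟨t, ht, t * c, by simp⟩
    | zero => exact ⟨1, fun h => hP.1.1.ne_top ((Ideal.eq_top_iff_one P).mpr h), 0, by simp⟩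
    | add x y _ _ hx hy =>
      obtain ⟨t, ht, u, hu⟩ := hx
      obtain ⟨t', ht', v, hv⟩ := hy
      refine ⟨t * t', fun h => (hP.1.1.mem_or_mem h).elim ht ht', t' * u + t * v, ?_⟩
      simp only [map_add, map_mul, hu, hv, AddMemClass.coe_add]
      ring
    | smul y x hx ih =>
      -- `x = Σ cᵢ yᵢ`, use the conductor
      have key : ∀ z ∈ P.map (algebraMap R S₀), ∀ y : S₀, ∃ t ∉ P,
          algebraMap R S t * ((y : S) * (z : S)) ∈ Set.range (algebraMap R S) := by
        intro z hz
        induction hz using Submodule.span_induction with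
        | mem z hz =>
          intro y
          obtain ⟨c, hc, rfl⟩ := hz
          obtain ⟨t, ht, htc⟩ := hcP c hc
          obtain ⟨w, hw⟩ := htc y y.2
          exact ⟨t, ht, w, by rw [hw, map_mul, Subalgebra.coe_algebraMap]; ring⟩
        | zero => exact fun y => ⟨1, fun h => hP.1.1.ne_top ((Ideal.eq_top_iff_one P).mpr h), 0, by simp⟩
        | add x x' _ _ hx hx' =>
          intro y
          obtain ⟨t, ht, u, hu⟩ := hx y
          obtain ⟨t', ht', v, hv⟩ := hx' y
          refine ⟨t * t', fun h => (hP.1.1.mem_or_mem h).elim ht ht', t' * u + t * v, ?_⟩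
          simp only [map_add, map_mul, hu, hv, AddMemClass.coe_add]
          ring
        | smul y' x _ ih =>
          intro y
          obtain ⟨t, ht, h⟩ := ih (y * y')
          refine ⟨t, ht, ?_⟩
          simpa [mul_assoc] using h
      simpa using key x hx y
  have hmain : ∀ y : S₀, ∃ t ∉ P, algebraMap R S t * (y : S) ∈ Set.range (algebraMap R S) := by
    intro y
    obtain ⟨a, b, hb, hu⟩ := exists_mem_range_mod p hp hR hpt P Q (y : S)
    let u : S₀ := algebraMap R S₀ b * y - algebraMap R S₀ a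
    obtain ⟨t, ht, n, htn⟩ : ∃ t ∉ P, ∃ n : ℕ, algebraMap R S₀ t * u ^ n ∈ P.map (algebraMap R S₀) := by
      by_contra hne
      push Not at hne
      let M : Submonoid S₀ :=
        { carrier := {x | ∃ t ∉ P, ∃ n : ℕ, x = algebraMap R S₀ t * u ^ n}
          one_mem' := ⟨1, fun h => hP.1.1.ne_top ((Ideal.eq_top_iff_one P).mpr h), 0, by simp⟩
          mul_mem' := by
            rintro _ _ ⟨t, ht, n, rfl⟩ ⟨t', ht', n', rfl⟩
            exact ⟨t * t', fun h => (hP.1.1.mem_or_mem h).elim ht ht', n + n', by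
              rw [map_mul]; ring⟩ }
      obtain ⟨J, hJ, hCJ, hJM⟩ := Ideal.exists_le_prime_disjoint (P.map (algebraMap R S₀)) M
        (Set.disjoint_left.mpr fun x hx ⟨t, ht, n, e⟩ => hne t ht n (e ▸ hx))
      have hint : (algebraMap S₀ S).IsIntegral := by
        intro x
        exact IsIntegral.tower_top (Algebra.IsIntegral.isIntegral (R := R) x)
      obtain ⟨⟨Q', hQ'⟩, hQ'J⟩ := hint.comap_surjective Subtype.coe_injective ⟨J, hJ⟩
      have hmemJ : ∀ x : S₀, (x : S) ∈ Q' ↔ x ∈ J := fun x =>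
        SetLike.ext_iff.mp (congr_arg PrimeSpectrum.asIdeal hQ'J) x
      have hQQ : Q' = Q := by
        refine congr_arg PrimeSpectrum.asIdeal (hbij.1 (?_ :
          PrimeSpectrum.comap (algebraMap R S) ⟨Q', hQ'⟩ = PrimeSpectrum.comap (algebraMap R S) ⟨Q, hQ⟩))
        rw [hQP]
        ext r
        have hJr : algebraMap R S r ∈ Q' ↔ algebraMap R S₀ r ∈ J := hmemJ (algebraMap R S₀ r)
        change algebraMap R S r ∈ Q' ↔ r ∈ P
        rw [hJr]
        refine ⟨fun h => ?_, fun h => hCJ (Ideal.mem_map_of_mem _ h)⟩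
        by_contra hr
        exact Set.disjoint_left.mp hJM h ⟨r, hr, 0, by simp⟩
      have huJ : u ∈ J := by
        rw [← hmemJ, hQQ]
        simpa [u] using hu
      exact Set.disjoint_left.mp hJM huJ
        ⟨1, fun h => hP.1.1.ne_top ((Ideal.eq_top_iff_one P).mpr h), 1, by simp⟩
    obtain ⟨k, hk⟩ : ∃ k, n ≤ p ^ k := ⟨n, (Nat.lt_pow_self (Fact.out : p.Prime).one_lt).le⟩
    have hmem : algebraMap R S₀ t * u ^ p ^ k ∈ P.map (algebraMap R S₀) := by
      rw [← pow_sub_mul_pow u hk, mul_left_comm]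
      exact Ideal.mul_mem_left _ _ htn
    obtain ⟨t', ht', v, hv⟩ := hPS _ hmem
    have hTu : algebraMap R S (t' * t) * (u : S) ∈ Set.range (algebraMap R S) := by
      refine mem_range_of_pow p hp hR hS Fact.out k ⟨(t' * t) ^ (p ^ k - 1) * v, ?_⟩
      rw [map_mul (algebraMap R S) ((t' * t) ^ (p ^ k - 1)) v, hv, map_pow, mul_pow,
        ← pow_sub_mul_pow (algebraMap R S (t' * t))
          (Nat.one_le_pow k p (Fact.out : p.Prime).pos), pow_one]
      simp only [MulMemClass.coe_mul, SubmonoidClass.coe_pow, Subalgebra.coe_algebraMap, map_mul]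
      ring
    obtain ⟨w, hw⟩ := hTu
    refine ⟨t' * t * b, fun h => ?_, w + t' * t * a, ?_⟩
    · rcases hP.1.1.mem_or_mem h with h | h
      · exact (hP.1.1.mem_or_mem h).elim ht' ht
      · exact hb h
    · simp only [u, map_add, map_mul, hw, AddSubgroupClass.coe_sub, MulMemClass.coe_mul,
        Subalgebra.coe_algebraMap]
      ring
  -- finitely many generators
  obtain ⟨G, hG⟩ := hfg
  classical
  choose T hT hTr using fun y : {y // y ∈ G} => hmain ⟨y.1, by
    have : (y.1 : S) ∈ Submodule.span R (G : Set S) := Submodule.subset_span y.2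
    rwa [hG] at this⟩
  have hprod : ∏ y : {y // y ∈ G}, T y ∉ P := by
    rw [hP.1.1.prod_mem_iff]
    push Not
    exact fun y _ => hT y
  apply hprod
  apply hP.1.2
  intro y hy
  have hy' : y ∈ Submodule.span R (G : Set S) := by rw [hG]; exact hy
  induction hy' using Submodule.span_induction with
  | mem y hyG =>
    obtain ⟨w, hw⟩ := hTr ⟨y, hyG⟩
    refine ⟨(∏ z ∈ Finset.univ.erase ⟨y, hyG⟩, T z) * w, ?_⟩
    rw [map_mul, hw, ← mul_assoc, ← map_mul, mul_comm (Finset.prod _ _),
      Finset.mul_prod_erase _ _ (Finset.mem_univ _)]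
  | zero => exact ⟨0, by simp⟩
  | add x z hx hz ihx ihz =>
    obtain ⟨u₁, hu₁⟩ := ihx (by change x ∈ S₀.toSubmodule; rw [← hG]; exact hx)
    obtain ⟨u₂, hu₂⟩ := ihz (by change z ∈ S₀.toSubmodule; rw [← hG]; exact hz)
    exact ⟨u₁ + u₂, by rw [map_add, hu₁, hu₂, mul_add]⟩
  | smul c x hx ihx =>
    obtain ⟨u₁, hu₁⟩ := ihx (by change x ∈ S₀.toSubmodule; rw [← hG]; exact hx)
    exact ⟨c * u₁, by rw [map_mul, hu₁, Algebra.smul_def]; ring⟩

end Groth.Agent.H98.PerfUH
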